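import Cfsg.Agent.AbelianSylowZStar.Basic

/-!
# A 2-automorphism centralizing an abelian Sylow 2-subgroup is inner
-/

set_option autoImplicit false
set_option linter.style.haveILetI false
set_option linter.unusedSectionVars false

namespace CfsgLib.AbelianSylowZStar

open Cfsg

universe u

/-- Averaging: a power of the product of the conjugates is fixed and congruent to the element. -/
theorem exists_fixed_congr {X : Type u} [Group X] [Finite X] (Q : Sylow 2 X)
    (hab : ∀ a ∈ (Q : Subgroup X), ∀ b ∈ (Q : Subgroup X), a * b = b * a) {B : Type*} [CommGroup B]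
    (π : X →* B) {a : X} (ha : a ∈ (Q : Subgroup X)) :
    ∃ β ∈ (Q : Subgroup X), (∀ n ∈ Subgroup.normalizer ((Q : Subgroup X) : Set X), n * β = β * n) ∧
      π β = π a := by
  classical
  haveI := Fact.mk Nat.prime_two
  set N := Subgroup.normalizer ((Q : Subgroup X) : Set X) with hN
  letI : CommGroup ↥(Q : Subgroup X) :=
    { (inferInstance : Group ↥(Q : Subgroup X)) with mul_comm := fun x y => Subtype.ext (hab x x.2 y y.2) }
  let act : N →* MulAut ↥(Q : Subgroup X) :=
    { toFun := fun n =>
        { toFun := fun x => ⟨n * x * (n : X)⁻¹, (Subgroup.mem_normalizer_iff.1 n.2 x).1 x.2⟩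
          invFun := fun x => ⟨(n : X)⁻¹ * x * n, by
            have := (Subgroup.mem_normalizer_iff.1 (N.inv_mem n.2) x).1 x.2
            simpa using this⟩
          left_inv := fun x => Subtype.ext (by group)
          right_inv := fun x => Subtype.ext (by group)
          map_mul' := fun x y => Subtype.ext (by
            show (n : X) * (x * y : X) * (n : X)⁻¹ = (n * x * (n : X)⁻¹) * (n * y * (n : X)⁻¹)
            group) }
      map_one' := MulEquiv.ext fun x => Subtype.ext (by
        show (1 : X) * x * (1 : X)⁻¹ = x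
        group)
      map_mul' := fun m n => MulEquiv.ext fun x => Subtype.ext (by
        show ((m : X) * n) * x * ((m : X) * n)⁻¹ = m * (n * x * (n : X)⁻¹) * (m : X)⁻¹
        group) }
  haveI : Fintype act.range := Fintype.ofFinite _
  set a' : ↥(Q : Subgroup X) := ⟨a, ha⟩
  set f := ∏ γ : act.range, (γ : MulAut ↥(Q : Subgroup X)) a' with hf
  have hfix : ∀ n : N, act n f = f := by
    intro n
    rw [hf, map_prod]
    exact Fintype.prod_equiv (Equiv.mulLeft (⟨act n, n, rfl⟩ : act.range)) _ _ fun γ => rfl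
  have hπ : π (f : X) = π a ^ Fintype.card act.range := by
    have h : ∀ γ : act.range, π (((γ : MulAut ↥(Q : Subgroup X)) a' : ↥(Q : Subgroup X)) : X) = π a := by
      rintro ⟨_, n, rfl⟩
      show π (n * a * (n : X)⁻¹) = π a
      rw [map_mul, map_mul, map_inv, mul_right_comm, mul_inv_cancel, one_mul]
    calc π (f : X) = (π.comp (Q : Subgroup X).subtype) f := rfl
      _ = ∏ γ : act.range, π (((γ : MulAut ↥(Q : Subgroup X)) a' : ↥(Q : Subgroup X)) : X) := by
        rw [hf, map_prod]; rfl
      _ = _ := by rw [Finset.prod_congr rfl fun γ _ => h γ, Finset.prod_const, Finset.card_univ]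
  have hodd : (Fintype.card act.range).Coprime (Nat.card ↥(Q : Subgroup X)) := by
    obtain ⟨i, hi⟩ := Q.2.exists_card_eq
    rw [hi]
    refine Nat.Coprime.pow_right _ (Nat.coprime_two_right.2 (Nat.not_even_iff_odd.1 fun h => ?_))
    have hle : (Q : Subgroup X).subgroupOf N ≤ act.ker := fun q hq => MulEquiv.ext fun x => Subtype.ext (by
      show (q : X) * x * (q : X)⁻¹ = x
      rw [hab q hq x x.2, mul_inv_cancel_right])
    have h1 : act.ker.index ∣ (Q : Subgroup X).index :=
      (Subgroup.index_dvd_of_le hle).trans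
        ⟨_, (Subgroup.relIndex_mul_index (Subgroup.le_normalizer)).symm⟩
    rw [Subgroup.index_ker, Nat.card_eq_fintype_card] at h1
    exact Q.not_dvd_index ((even_iff_two_dvd.1 h).trans h1)
  obtain ⟨k, hk⟩ : ∃ k, (a' ^ Fintype.card act.range) ^ k = a' :=
    exists_pow_eq_self_of_coprime (Nat.Coprime.coprime_dvd_right (orderOf_dvd_natCard a') hodd)
  refine ⟨((f ^ k : ↥(Q : Subgroup X)) : X), (f ^ k).2, fun n hn => ?_, ?_⟩
  · have h : act ⟨n, hn⟩ (f ^ k) = f ^ k := by rw [map_pow, hfix]
    have h' := congrArg Subtype.val h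
    exact mul_inv_eq_iff_eq_mul.1 h'
  · have hk' : (a ^ Fintype.card act.range) ^ k = a := by
      simpa using congrArg Subtype.val hk
    rw [Subgroup.coe_pow, map_pow, hπ, ← map_pow, ← map_pow, hk']

theorem aut_inner {G : Type u} [Group G] [Finite G] (hcore : pPrimeCore 2 G = ⊥) (P : Sylow 2 G)
    (hab : IsMulCommutative (P : Subgroup G)) (α : MulAut G) (h2 : ∃ j : ℕ, orderOf α = 2 ^ j)
    (hfix : ∀ x ∈ (P : Subgroup G), α x = x) : ∃ g : G, ∀ x : G, α x = g * x * g⁻¹ := by
  classical
  haveI := Fact.mk Nat.prime_two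
  obtain ⟨j, hj⟩ := h2
  set A := Subgroup.zpowers α with hA
  haveI : Finite A := by
    have : Finite (MulAut G) := Finite.of_injective (fun e : MulAut G => (e : G → G)) DFunLike.coe_injective
    infer_instance
  have hAcomm : ∀ x y : A, x * y = y * x := by
    rintro ⟨_, i, rfl⟩ ⟨_, k, rfl⟩
    exact Subtype.ext (zpow_mul_comm α i k)
  letI : CommGroup A := { (inferInstance : Group A) with mul_comm := hAcomm }
  let X := G ⋊[A.subtype] A
  haveI : Finite X := Finite.of_equiv _ SemidirectProduct.equivProd.symm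
  have hAfix : ∀ b : A, ∀ x ∈ (P : Subgroup G), (b : MulAut G) x = x := by
    intro b x hx
    have : A ≤ MulAction.stabilizer (MulAut G) x := Subgroup.zpowers_le.2 (hfix x hx)
    exact this b.2
  let f : ↥(P : Subgroup G) × A →* X :=
    { toFun := fun q => ⟨q.1, q.2⟩
      map_one' := rfl
      map_mul' := fun q r => SemidirectProduct.ext
        (by
          show ((q.1 * r.1 : ↥(P : Subgroup G)) : G) = q.1 * (q.2 : MulAut G) r.1
          rw [hAfix q.2 r.1 r.1.2, Subgroup.coe_mul]) rfl }
  have hf : Function.Injective f := fun q r h =>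
    Prod.ext (Subtype.ext (congrArg SemidirectProduct.left h)) (congrArg SemidirectProduct.right h)
  have hcA : Nat.card A = 2 ^ j := by rw [hA, Nat.card_zpowers, hj]
  have hQcard : Nat.card f.range = 2 ^ ((Nat.card X).factorization 2) := by
    rw [Nat.card_congr (MonoidHom.ofInjective hf).symm.toEquiv, Nat.card_prod, hcA, P.card_eq_multiplicity,
      show Nat.card X = Nat.card G * Nat.card A from SemidirectProduct.card, hcA,
      Nat.factorization_mul Nat.card_pos.ne' (pow_pos two_pos j).ne', Finsupp.add_apply,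
      Nat.Prime.factorization_pow Nat.prime_two, Finsupp.single_eq_same, pow_add]
  let Q : Sylow 2 X := Sylow.ofCard f.range hQcard
  have hQ : (Q : Subgroup X) = f.range := Sylow.coe_ofCard f.range hQcard
  haveI := hab
  have hQab : ∀ a ∈ (Q : Subgroup X), ∀ b ∈ (Q : Subgroup X), a * b = b * a := by
    rw [hQ]
    rintro _ ⟨q, rfl⟩ _ ⟨r, rfl⟩
    rw [← map_mul, ← map_mul]
    congr 1
    exact Prod.ext (hab.is_comm.comm _ _) (mul_comm _ _)
  have haQ : (SemidirectProduct.inr (⟨α, Subgroup.mem_zpowers α⟩ : A) : X) ∈ (Q : Subgroup X) := by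
    rw [hQ]; exact ⟨(1, ⟨α, Subgroup.mem_zpowers α⟩), rfl⟩
  obtain ⟨β, hβQ, hβn, hβπ⟩ := exists_fixed_congr Q hQab SemidirectProduct.rightHom haQ
  -- no odd core
  have hO : pPrimeCore 2 X = ⊥ := by
    set O := pPrimeCore 2 X with hOdef
    haveI : O.Normal := Cfsg.pPrimeCore_normal 2 X
    have hle : O ≤ (SemidirectProduct.inl : G →* X).range := by
      rw [SemidirectProduct.range_inl_eq_ker_rightHom]
      intro x hx
      have h1 : orderOf (SemidirectProduct.rightHom x) ∣ Nat.card A := orderOf_dvd_natCard _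
      rw [hcA] at h1
      have h2 : ¬ 2 ∣ orderOf (SemidirectProduct.rightHom x) := fun h =>
        CfsgLib.PCore.not_dvd_card_pPrimeCore 2 X ((h.trans (orderOf_map_dvd _ x)).trans (by
          rw [← Subgroup.orderOf_mk x hx]; exact orderOf_dvd_natCard _))
      exact MonoidHom.mem_ker.2 (CfsgLib.ZStar.eq_one_of_dvd h1 h2)
    have hcomap : O.comap (SemidirectProduct.inl : G →* X) = ⊥ := by
      refine le_bot_iff.1 (le_trans (CfsgLib.PCore.le_pPrimeCore (inferInstance) ?_) hcore.le)
      rw [← Subgroup.card_map_of_injective (SemidirectProduct.inl_injective (φ := A.subtype)),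
        Subgroup.map_comap_eq_self hle]
      exact CfsgLib.PCore.pPrimeCore_coprime 2 X
    rw [← Subgroup.map_comap_eq_self hle, hcomap, Subgroup.map_bot]
  obtain ⟨i, hi⟩ := Q.2 ⟨β, hβQ⟩
  have hc := central_of_fixed i X hO Q hQab β hβQ hβn (congrArg Subtype.val hi)
  rw [hQ] at hβQ
  obtain ⟨⟨p, b⟩, rfl⟩ := hβQ
  have hb : b = ⟨α, Subgroup.mem_zpowers α⟩ := hβπ
  subst hb
  refine ⟨(p : G)⁻¹, fun x => ?_⟩
  have h := congrArg SemidirectProduct.left (Subgroup.mem_center_iff.1 hc (SemidirectProduct.inl x))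
  change x * (1 : MulAut G) (p : G) = (p : G) * α x at h
  rw [MulAut.one_apply] at h
  rw [inv_inv, mul_assoc, h, inv_mul_cancel_left]

end CfsgLib.AbelianSylowZStar
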