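import Cfsg.Agent.ZStar.Main
import Cfsg.Agent.Transfer.Fusion
import Cfsg.Agent.PCore.Basic

/-!
# Abelian Sylow 2-subgroups: elements fixed by the normalizer are central modulo the odd core
-/

set_option autoImplicit false
set_option linter.style.haveILetI false
set_option linter.unusedSectionVars false

namespace CfsgLib.AbelianSylowZStar

open Cfsg

universe u

theorem core_quotient_central {X : Type u} [Group X] [Finite X] (hO : pPrimeCore 2 X = ⊥) (Z : Subgroup X)
    [Z.Normal] (hZ : Z ≤ Subgroup.center X) (hZ2 : IsPGroup 2 Z) : pPrimeCore 2 (X ⧸ Z) = ⊥ := by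
  haveI := Fact.mk Nat.prime_two
  set K := pPrimeCore 2 (X ⧸ Z) with hK
  haveI : K.Normal := Cfsg.pPrimeCore_normal 2 _
  set K' := K.comap (QuotientGroup.mk' Z) with hK'
  haveI : K'.Normal := Subgroup.Normal.comap inferInstance _
  have hZK : Z ≤ K' := fun z hz => by
    rw [hK', Subgroup.mem_comap, QuotientGroup.mk'_apply, (QuotientGroup.eq_one_iff z).2 hz]
    exact one_mem _
  set Zk := Z.subgroupOf K' with hZk
  have hcard := CfsgLib.PCore.card_comap_mk' Z K
  have hZkc : Nat.card Zk = Nat.card Z := Nat.card_congr (Subgroup.subgroupOfEquivOfLe hZK).toEquiv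
  have hidx : Zk.index = Nat.card K := by
    have h := Zk.card_mul_index
    rw [hZkc, hcard] at h
    exact mul_left_cancel₀ Nat.card_pos.ne' h
  have hcop : (Nat.card Zk).Coprime Zk.index := by
    obtain ⟨i, hi⟩ := hZ2.exists_card_eq
    rw [hidx, hZkc, hi]
    exact ((CfsgLib.PCore.pPrimeCore_coprime 2 _).symm).pow_left i
  obtain ⟨H, hH⟩ := Subgroup.exists_right_complement'_of_coprime hcop
  have hcH : (Nat.card H).Coprime 2 := by
    have h := hH.card_mul
    rw [← Zk.card_mul_index] at h
    rw [mul_left_cancel₀ Nat.card_pos.ne' h, hidx]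
    exact CfsgLib.PCore.pPrimeCore_coprime 2 _
  have hHn : H.Normal := by
    constructor
    intro x hx g
    obtain ⟨⟨z, h⟩, hzh, -⟩ := hH.existsUnique g
    have hzc : ∀ y : K', (z : K') * y = y * z := fun y => Subtype.ext
      (Subgroup.mem_center_iff.1 (hZ z.2) (y : X)).symm
    rw [← hzh]
    show (z : K') * h * x * ((z : K') * h)⁻¹ ∈ H
    rw [show (z : K') * h * x * ((z : K') * h)⁻¹ = ((z : K') * (h * x * (h : K')⁻¹)) * (z : K')⁻¹ by group,
      hzc, mul_inv_cancel_right]
    exact H.mul_mem (H.mul_mem h.2 hx) (H.inv_mem h.2)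
  have hH1 : H = ⊥ := by
    refine le_bot_iff.1 fun x hx => ?_
    have h1 := CfsgLib.PCore.le_pPrimeCore hHn hcH hx
    have h2 : (x : X) ∈ pPrimeCore 2 X ⊓ K' := by
      rw [← CfsgLib.PCore.map_pPrimeCore_normal]; exact ⟨x, h1, rfl⟩
    rw [hO, bot_inf_eq, Subgroup.mem_bot] at h2
    exact Subgroup.mem_bot.2 (Subtype.ext h2)
  have h := hH.card_mul
  rw [hH1, Subgroup.card_bot, mul_one, hZkc, hcard] at h
  exact Subgroup.card_eq_one.1 (Nat.mul_left_cancel Nat.card_pos (by rw [mul_one]; exact h.symm))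

theorem central_of_fixed : ∀ (k : ℕ) (X : Type u) [Group X] [Finite X], pPrimeCore 2 X = ⊥ →
    ∀ Q : Sylow 2 X, (∀ a ∈ (Q : Subgroup X), ∀ b ∈ (Q : Subgroup X), a * b = b * a) →
    ∀ β ∈ (Q : Subgroup X), (∀ n ∈ Subgroup.normalizer ((Q : Subgroup X) : Set X), n * β = β * n) →
    β ^ 2 ^ k = 1 → β ∈ Subgroup.center X := by
  haveI := Fact.mk Nat.prime_two
  intro k
  induction k with
  | zero =>
    intro X _ _ _ Q _ β _ _ h
    rw [pow_zero, pow_one] at h
    rw [h]; exact one_mem _
  | succ k ih =>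
    intro X _ _ hO Q hab β hβ hn hk
    set u := β ^ 2 ^ k with hu
    by_cases hu1 : u = 1
    · exact ih X hO Q hab β hβ hn hu1
    have hu2 : orderOf u = 2 := orderOf_eq_prime (by rw [hu, ← pow_mul, ← pow_succ]; exact hk) hu1
    have huQ : u ∈ (Q : Subgroup X) := (Q : Subgroup X).pow_mem hβ _
    have hun : ∀ n ∈ Subgroup.normalizer ((Q : Subgroup X) : Set X), n * u = u * n := fun n h =>
      ((show Commute n β from hn n h).pow_right _).eq
    have hiso : Cfsg.IsIsolatedInvolution u := by
      refine CfsgLib.ZStar.isolated_of_sylow Q hu2 huQ fun g hg => ?_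
      have hnormal : ∀ x ∈ (Q : Subgroup X), (Q : Subgroup X) ≤ Subgroup.normalizer ({x} : Set X) := by
        intro x hx q hq
        rw [Subgroup.mem_set_normalizer_iff]
        intro y
        simp only [Set.mem_singleton_iff]
        rw [mul_inv_eq_iff_eq_mul, ← hab q hq x hx, mul_right_inj]
      obtain ⟨n, hn', he⟩ := CfsgLib.Transfer.burnside_fusion_image Q (A := ({u} : Set X)) (g := g)
        (hnormal u huQ) (by rw [Set.image_singleton]; exact hnormal _ hg)
      rw [Set.image_singleton, Set.image_singleton, Set.singleton_eq_singleton_iff] at he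
      rw [← he, hun n hn', mul_inv_cancel_right]
    have huc : u ∈ Subgroup.center X := by
      rw [Subgroup.mem_center_iff]
      intro g
      have h := CfsgLib.ZStar.zstar hiso g
      rw [hO, Subgroup.mem_bot, mul_inv_eq_one, mul_inv_eq_iff_eq_mul] at h
      exact h.symm
    set Z := Subgroup.zpowers u with hZ
    have hZc : Z ≤ Subgroup.center X := Subgroup.zpowers_le.2 huc
    haveI hZn : Z.Normal := ⟨fun a ha b => by
      rw [Subgroup.mem_center_iff.1 (hZc ha) b, mul_inv_cancel_right]; exact ha⟩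
    have hZ2 : IsPGroup 2 Z := IsPGroup.of_card (n := 1) (by rw [hZ, Nat.card_zpowers, hu2, pow_one])
    let π := QuotientGroup.mk' Z
    have hπ : Function.Surjective π := QuotientGroup.mk'_surjective Z
    let Q' : Sylow 2 (X ⧸ Z) := Q.mapSurjective hπ
    have hQ' : ((Q' : Subgroup (X ⧸ Z))) = (Q : Subgroup X).map π := rfl
    have hZQ : Z ≤ (Q : Subgroup X) := Subgroup.zpowers_le.2 huQ
    have hcom : (Q' : Subgroup (X ⧸ Z)).comap π = (Q : Subgroup X) := by
      rw [hQ', Subgroup.comap_map_eq_self]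
      rw [QuotientGroup.ker_mk']; exact hZQ
    have hc := ih (X ⧸ Z) (core_quotient_central hO Z hZc hZ2) Q' (by
        rintro _ ⟨a, ha, rfl⟩ _ ⟨b, hb, rfl⟩
        rw [← map_mul, ← map_mul, hab a ha b hb]) (π β) ⟨β, hβ, rfl⟩ (by
        intro n hn'
        obtain ⟨m, rfl⟩ := hπ n
        have hm : m ∈ Subgroup.normalizer ((Q : Subgroup X) : Set X) := by
          rw [Subgroup.mem_normalizer_iff]
          intro q
          rw [← hcom, Subgroup.mem_comap, Subgroup.mem_comap, map_mul, map_mul, map_inv]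
          exact (Subgroup.mem_normalizer_iff.1 hn' (π q))
        rw [← map_mul, ← map_mul, hn m hm])
      (by
        rw [← map_pow]
        exact (QuotientGroup.eq_one_iff _).2 (Subgroup.mem_zpowers u))
    -- commutators with `β` lie in `Z`
    rw [Subgroup.mem_center_iff]
    intro g
    have hd : ∀ x : X, β * x * β⁻¹ * x⁻¹ = 1 ∨ β * x * β⁻¹ * x⁻¹ = u := by
      intro x
      have h : β * x * β⁻¹ * x⁻¹ ∈ Z := by
        rw [← QuotientGroup.eq_one_iff]
        show π (β * x * β⁻¹ * x⁻¹) = 1
        rw [map_mul, map_mul, map_mul, map_inv, map_inv, ← Subgroup.mem_center_iff.1 hc (π x)]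
        group
      obtain ⟨j, hj⟩ := Subgroup.mem_zpowers_iff.1 h
      rw [← hj, ← zpow_mod_orderOf, hu2]
      rcases Int.emod_two_eq j with e | e
      · left; norm_num [e]
      · right; norm_num [e]
    set C := Subgroup.centralizer ({β} : Set X) with hC
    have hQC : (Q : Subgroup X) ≤ C := fun q hq => Subgroup.mem_centralizer_singleton_iff.2 (hab q hq β hβ)
    by_contra hg
    have hidx : C.index = 2 := by
      rw [Subgroup.index_eq_two_iff]
      refine ⟨g, fun b => ?_⟩
      rw [hC, Subgroup.mem_centralizer_singleton_iff, Subgroup.mem_centralizer_singleton_iff]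
      have key : ∀ x : X, (x * β = β * x) ↔ β * x * β⁻¹ * x⁻¹ = 1 := fun x => by
        rw [mul_inv_eq_one, mul_inv_eq_iff_eq_mul, eq_comm]
      have hg' : β * g * β⁻¹ * g⁻¹ = u :=
        (hd g).resolve_left fun h => hg ((key g).2 h)
      have e : β * (b * g) * β⁻¹ * (b * g)⁻¹ = (β * b * β⁻¹ * b⁻¹) * u := by
        calc β * (b * g) * β⁻¹ * (b * g)⁻¹ = (β * b * β⁻¹ * b⁻¹) * (b * (β * g * β⁻¹ * g⁻¹) * b⁻¹) := by group
          _ = _ := by rw [hg', Subgroup.mem_center_iff.1 huc b, mul_inv_cancel_right]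
      rw [key, key, e]
      rcases hd b with h | h
      · right
        refine ⟨h, ?_⟩
        rw [h, one_mul]; exact hu1
      · left
        have h' : u * u = 1 := by
          have := pow_orderOf_eq_one u
          rwa [hu2, pow_two] at this
        refine ⟨by rw [h, h'], ?_⟩
        rw [h]; exact hu1
    have h := Subgroup.index_dvd_of_le hQC
    rw [hidx] at h
    exact Q.not_dvd_index h

end CfsgLib.AbelianSylowZStar
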